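import Cfsg.Agent.H624.Sl.Defs
import Cfsg.Agent.H152.Blocks

/-!
# S4536 (LA1): the dimensions of the kernels `ker g(x)` determine the class of `x` in `GL_n(F)` (helper987)
-/

set_option autoImplicit false

open Cfsg Polynomial
open scoped MatrixGroups

namespace Cfsg.Agent.H987.Sl

open Cfsg.Agent.H624.Sl

universe u

variable {F : Type u} [Field F] {n : ℕ}

/-- LA1, with powers of monic irreducible polynomials only -/
theorem isConj_of_kd' (x y : GL (Fin n) F)
    (h : ∀ φ : F[X], φ.Monic → Irreducible φ → ∀ j : ℕ, kd x (φ ^ j) = kd y (φ ^ j)) : IsConj x y := by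
  obtain ⟨E, hE⟩ := Cfsg.Agent.H152.exists_equiv_of_finrank (Matrix.toLin' x.1) (Matrix.toLin' y.1) h
  rw [isConj_iff]
  refine ⟨(glE F n).symm E, ?_⟩
  have key : E * glE F n x = glE F n y * E := by
    ext1 v
    exact hE v
  apply (glE F n).injective
  rw [map_mul, map_mul, map_inv, MulEquiv.apply_symm_apply, key, mul_inv_cancel_right]

/-- LA1: the dimensions of the kernels of `g(x)` determine the class. -/
theorem isConj_of_kd (x y : GL (Fin n) F) (h : ∀ g : F[X], kd x g = kd y g) : IsConj x y :=
  isConj_of_kd' x y fun φ _ _ j => h (φ ^ j)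

end Cfsg.Agent.H987.Sl
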